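import Groth.Agent.Etcore.HC
import Mathlib.RingTheory.Henselian
import Mathlib.FieldTheory.IsSepClosed
import Mathlib.RingTheory.LocalRing.ResidueField.Basic

/-!
# The functor `T ↦ H^q(X ×_Y T, M)` and the property `SC`

* `bm f a t t' w : X ×_Y T' ⟶ X ×_Y T` for `a : T' ⟶ T` over `Y`, `bm_comp`, `bm_id`;
* `PM M f a t t' w q := HC M (bm f a t t' w) q`, `PM_comp`, `PM_id`;
* `SC f m M`: for every strictly henselian local ring `T` over `Y` and every separably closed field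
  `T → Ω`, the map `H^q(X ×_Y T, M) → H^q(X ×_Y Ω, M)` is bijective for `q ≤ m`;
* `SC.baseChange`: stability under base change.
-/

set_option autoImplicit false
universe u
open CategoryTheory CategoryTheory.Limits AlgebraicGeometry IsLocalRing
open scoped Groth.Agent.Etcore.EtInst
open Groth.Agent.Etcore.EtInst Groth.Agent.Etcore.PullCoh Groth.Agent.Etcore.HC

namespace Groth.Agent.Sga7.H754.SCDef

variable {X Y : Scheme.{u}}

/-- The base change morphism `X ×_Y T' ⟶ X ×_Y T`. -/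
noncomputable def bm (f : X ⟶ Y) {T' T : Scheme.{u}} (a : T' ⟶ T) (t : T ⟶ Y) (t' : T' ⟶ Y)
    (w : a ≫ t = t') : pullback f t' ⟶ pullback f t :=
  pullback.map f t' f t (𝟙 X) a (𝟙 Y) (by simp) (by simp [w])

@[reassoc (attr := simp)]
theorem bm_fst (f : X ⟶ Y) {T' T : Scheme.{u}} (a : T' ⟶ T) (t : T ⟶ Y) (t' : T' ⟶ Y)
    (w : a ≫ t = t') : bm f a t t' w ≫ pullback.fst f t = pullback.fst f t' :=
  (pullback.lift_fst _ _ _).trans (Category.comp_id _)

@[reassoc (attr := simp)]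
theorem bm_snd (f : X ⟶ Y) {T' T : Scheme.{u}} (a : T' ⟶ T) (t : T ⟶ Y) (t' : T' ⟶ Y)
    (w : a ≫ t = t') : bm f a t t' w ≫ pullback.snd f t = pullback.snd f t' ≫ a :=
  pullback.lift_snd _ _ _

theorem bm_comp (f : X ⟶ Y) {T'' T' T : Scheme.{u}} (b : T'' ⟶ T') (a : T' ⟶ T) (t : T ⟶ Y)
    (t' : T' ⟶ Y) (t'' : T'' ⟶ Y) (w : a ≫ t = t') (w' : b ≫ t' = t'') :
    bm f b t' t'' w' ≫ bm f a t t' w = bm f (b ≫ a) t t'' (by rw [Category.assoc, w, w']) := by
  apply pullback.hom_ext <;> simp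

theorem bm_id (f : X ⟶ Y) {T : Scheme.{u}} (t : T ⟶ Y) (w : 𝟙 T ≫ t = t) :
    bm f (𝟙 T) t t w = 𝟙 _ := by
  apply pullback.hom_ext <;> simp

section

variable (M : Type) [AddCommGroup M]

/-- The map `H^q(X ×_Y T, M) → H^q(X ×_Y T', M)`. -/
noncomputable def PM (f : X ⟶ Y) {T' T : Scheme.{u}} (a : T' ⟶ T) (t : T ⟶ Y) (t' : T' ⟶ Y)
    (w : a ≫ t = t') (q : ℕ) :
    HH (pullback f t) (EtCoh.const (pullback f t) M) q →+
      HH (pullback f t') (EtCoh.const (pullback f t') M) q :=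
  HC M (bm f a t t' w) q

theorem PM_comp (f : X ⟶ Y) {T'' T' T : Scheme.{u}} (b : T'' ⟶ T') (a : T' ⟶ T) (t : T ⟶ Y)
    (t' : T' ⟶ Y) (t'' : T'' ⟶ Y) (w : a ≫ t = t') (w' : b ≫ t' = t'') (c : T'' ⟶ T)
    (hc : b ≫ a = c) (q : ℕ) (x) :
    PM M f b t' t'' w' q (PM M f a t t' w q x) =
      PM M f c t t'' (by rw [← hc, Category.assoc, w, w']) q x := by
  subst hc
  exact HC_HC M _ _ _ (bm_comp f b a t t' t'' w w') q x

theorem PM_id (f : X ⟶ Y) {T : Scheme.{u}} (t : T ⟶ Y) (a : T ⟶ T) (ha : a = 𝟙 T)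
    (w : a ≫ t = t) (q : ℕ) (x) :
    PM M f a t t w q x = x := by
  subst ha
  have h : bm f (𝟙 T) t t w = 𝟙 _ := bm_id f t w
  unfold PM
  rw [h]
  exact HC_id M q x

/-- `SC f m M`. -/
def SC (f : X ⟶ Y) (m : ℕ) : Prop :=
  ∀ (T Ω : Type u) [CommRing T] [HenselianLocalRing T] [IsSepClosed (ResidueField T)]
    [Field Ω] [IsSepClosed Ω] (a : T →+* Ω) (t : Spec (CommRingCat.of T) ⟶ Y)
    (t' : Spec (CommRingCat.of Ω) ⟶ Y)
    (w : Spec.map (CommRingCat.ofHom a) ≫ t = t') (q : ℕ), q ≤ m →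
    Function.Bijective (PM M f (Spec.map (CommRingCat.ofHom a)) t t' w q)

end

/-- Bijectivity of `HC` along an isomorphism. -/
theorem bijective_HC_of_isIso (M : Type) [AddCommGroup M] {X' : Scheme.{u}} (e : X' ⟶ X) [IsIso e]
    (q : ℕ) : Function.Bijective (HC M e q) :=
  (bijective_HC_iff M e q).2 (Groth.Agent.Etcore.HpullCalc.bijective_hp_of_isIso e _ q)

end Groth.Agent.Sga7.H754.SCDef
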