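import Groth.Agent.Sga7.H754.SCDef
import Groth.Prelude.Def_SGA7I

/-!
# The geometric fibre of a model

`X = X₀ ×_S Spec K` (`hsq : IsPullback p f f₀ k`).  `ident : X ×_K Spec Ω ⟶ X₀ ×_S Spec Ω` is an isomorphism
and intertwines `SGA7.twistAut Ω f σ` and `bm f₀ (Spec σ)`.
-/

set_option autoImplicit false
universe u
open CategoryTheory CategoryTheory.Limits AlgebraicGeometry
open scoped Groth.Agent.Etcore.EtInst
open Groth.Agent.Etcore.EtInst Groth.Agent.Etcore.PullCoh Groth.Agent.Etcore.HC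

namespace Groth.Agent.Sga7.H754.Ident

open Groth.Agent.Sga7.H754.SCDef

variable {X X₀ S T K : Scheme.{u}} {p : X ⟶ X₀} {f : X ⟶ K} {f₀ : X₀ ⟶ S} {k : K ⟶ S}

/-- The comparison `X ×_K T ⟶ X₀ ×_S T`. -/
noncomputable def ident (hsq : IsPullback p f f₀ k) (j : T ⟶ K) (t : T ⟶ S) (w : j ≫ k = t) :
    pullback f j ⟶ pullback f₀ t :=
  pullback.map f j f₀ t p (𝟙 T) k hsq.w.symm (by rw [w, Category.id_comp])

section ident

variable (hsq : IsPullback p f f₀ k) (j : T ⟶ K) (t : T ⟶ S) (w : j ≫ k = t)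

@[reassoc (attr := simp)]
theorem ident_fst : ident hsq j t w ≫ pullback.fst f₀ t = pullback.fst f j ≫ p :=
  pullback.lift_fst _ _ _

@[reassoc (attr := simp)]
theorem ident_snd : ident hsq j t w ≫ pullback.snd f₀ t = pullback.snd f j :=
  (pullback.lift_snd _ _ _).trans (Category.comp_id _)

instance : IsIso (ident hsq j t w) := by
  subst w
  have h1 : IsPullback (pullback.fst f j ≫ p) (pullback.snd f j) f₀ (j ≫ k) :=
    (IsPullback.of_hasPullback f j).paste_horiz hsq
  have h2 : ident hsq j (j ≫ k) rfl = h1.isoPullback.hom := by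
    apply pullback.hom_ext
    · rw [ident_fst, IsPullback.isoPullback_hom_fst]
    · rw [ident_snd, IsPullback.isoPullback_hom_snd]
  rw [h2]
  infer_instance

end ident

section twist

variable {L Ω : Type u} [Field L] [Field Ω] [Algebra L Ω] {X X₀ S : Scheme.{u}} {p : X ⟶ X₀}
  {f : X ⟶ Spec (CommRingCat.of L)} {f₀ : X₀ ⟶ S} {k : Spec (CommRingCat.of L) ⟶ S}
  (hsq : IsPullback p f f₀ k) (t : Spec (CommRingCat.of Ω) ⟶ S)
  (w : Spec.map (CommRingCat.ofHom (algebraMap L Ω)) ≫ k = t) (σ : Ω ≃ₐ[L] Ω)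

include w in
theorem spec_comp : Spec.map (CommRingCat.ofHom (σ : Ω →+* Ω)) ≫ t = t := by
  rw [← w, ← Category.assoc, ← Spec.map_comp, ← CommRingCat.ofHom_comp]
  congr 3
  ext x
  simp

theorem twistAut_ident (w' : Spec.map (CommRingCat.ofHom (σ : Ω →+* Ω)) ≫ t = t) :
    SGA7.twistAut Ω f σ ≫ ident hsq _ t w =
      ident hsq _ t w ≫ bm f₀ (Spec.map (CommRingCat.ofHom (σ : Ω →+* Ω))) t t w' := by
  have h1 : SGA7.twistAut Ω f σ ≫ pullback.fst f _ = pullback.fst f _ ≫ 𝟙 X := pullback.lift_fst _ _ _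
  have h2 : SGA7.twistAut Ω f σ ≫ pullback.snd f _ =
      pullback.snd f _ ≫ Spec.map (CommRingCat.ofHom (σ : Ω →+* Ω)) := pullback.lift_snd _ _ _
  apply pullback.hom_ext
  · rw [Category.assoc, Category.assoc, ident_fst, bm_fst, ident_fst, ← Category.assoc, h1,
      Category.comp_id]
  · rw [Category.assoc, Category.assoc, ident_snd, bm_snd, h2, ← Category.assoc, ident_snd]

variable (M : Type) [AddCommGroup M] (q : ℕ)

theorem bijective_HC_ident : Function.Bijective (HC M (ident hsq _ t w) q) :=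
  bijective_HC_of_isIso M _ q

theorem HC_twistAut (w' : Spec.map (CommRingCat.ofHom (σ : Ω →+* Ω)) ≫ t = t)
    (x : HH (pullback f₀ t) (EtCoh.const (pullback f₀ t) M) q) :
    HC M (SGA7.twistAut Ω f σ) q (HC M (ident hsq _ t w) q x) =
      HC M (ident hsq _ t w) q (PM M f₀ (Spec.map (CommRingCat.ofHom (σ : Ω →+* Ω))) t t w' q x) := by
  rw [PM, HC_HC M _ _ _ (twistAut_ident hsq t w σ w') q x]
  exact (HC_comp M _ _ q x)

end twist

end Groth.Agent.Sga7.H754.Ident
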