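import Groth.Agent.Sga7.H754.NiceSC
import Groth.Agent.Sga7.H169.CoreDefs

/-!
# `CoreDefs.SCStmt`
-/

set_option autoImplicit false
universe u

namespace Groth.Agent.Sga7.H754.Stmts

theorem scStmt : Groth.Agent.Sga7.H169.CoreDefs.SCStmt.{u} :=
  fun _ _ _ _ _ _ _ _ _ _ h m => NiceSC.SC_of_nice h m

end Groth.Agent.Sga7.H754.Stmts
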