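import Groth.Agent.LoccohA.HomolFive
import Groth.Agent.LoccohB.Devissage

/-!
# Triangulated functors that are bijective on morphisms out of one object

`Pres G Z N`: `G.map : (Z ⟶ N⟦n⟧) → (G Z ⟶ G (N⟦n⟧))` is bijective for all `n`.  Stable under
isomorphisms, shifts and distinguished triangles; dévissage for bounded objects of a derived category.
-/

set_option autoImplicit false
universe w v v' u u'

open CategoryTheory CategoryTheory.Limits CategoryTheory.Pretriangulated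

namespace Groth.Agent.Sga7.H754.DRes

section

variable {C : Type u} [Category.{v} C] [Preadditive C] [HasZeroObject C] [HasShift C ℤ]
  [∀ n : ℤ, (shiftFunctor C n).Additive] [Pretriangulated C]
  {D : Type u'} [Category.{v} D] [Preadditive D] [HasZeroObject D] [HasShift D ℤ]
  [∀ n : ℤ, (shiftFunctor D n).Additive] [Pretriangulated D]
  (G : C ⥤ D) [G.CommShift ℤ] [G.IsTriangulated] (Z : C)

/-- `G` is bijective on morphisms from `Z` to the shifts of `N`. -/
def Pres : ObjectProperty C := fun N =>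
  ∀ n : ℤ, Function.Bijective (fun φ : Z ⟶ (N⟦n⟧ : C) => G.map φ)

/-- The natural transformation `Hom(Z, N) ⟶ Hom(G Z, G N)`. -/
def tau : preadditiveCoyoneda.obj (Opposite.op Z) ⟶
    G ⋙ preadditiveCoyoneda.obj (Opposite.op (G.obj Z)) where
  app N := AddCommGrpCat.ofHom (G.mapAddHom (X := Z) (Y := N))
  naturality N N' f := by
    ext φ
    exact G.map_comp φ f

theorem tau_app (N : C) (φ : Z ⟶ N) : (tau G Z).app N φ = G.map φ := rfl

theorem pres_iff (N : C) : Pres G Z N ↔ ∀ n : ℤ, Function.Bijective ((tau G Z).app (N⟦n⟧)) :=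
  Iff.rfl

instance : (Pres G Z).IsClosedUnderIsomorphisms where
  of_iso e h := fun n => LoccohA.HomolFive.bijective_of_iso (tau G Z)
    ((shiftFunctor C n).mapIso e) (h n)

theorem bijective_iff_of_iso {N N' : C} (e : N ≅ N') :
    Function.Bijective ((tau G Z).app N) ↔ Function.Bijective ((tau G Z).app N') :=
  ⟨LoccohA.HomolFive.bijective_of_iso _ e, LoccohA.HomolFive.bijective_of_iso _ e.symm⟩

theorem Pres.shift {N : C} (h : Pres G Z N) (m : ℤ) : Pres G Z (N⟦m⟧) := fun n =>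
  (bijective_iff_of_iso G Z ((shiftFunctorAdd C m n).app N)).1 (h (m + n))

theorem Pres.of_shift {N : C} {m : ℤ} (h : Pres G Z (N⟦m⟧)) : Pres G Z N := by
  intro n
  have h1 := h (n - m)
  exact (bijective_iff_of_iso G Z ((shiftFunctorAdd' C m (n - m) n (by lia)).app N)).2 h1

theorem pres_two (T : Triangle C) (hT : T ∈ distTriang C) (h₁ : Pres G Z T.obj₁)
    (h₃ : Pres G Z T.obj₃) : Pres G Z T.obj₂ := by
  intro n
  -- the shifted triangle
  let T' := (Triangle.shiftFunctor C (n - 1)).obj T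
  have hT' : T'.rotate ∈ distTriang C :=
    rot_of_distTriang _ (Triangle.shift_distinguished T hT (n - 1))
  have e (M : C) : M⟦n⟧ ≅ (M⟦n - 1⟧)⟦(1 : ℤ)⟧ := (shiftFunctorAdd' C (n - 1) 1 n (by lia)).app M
  have e' (M : C) : M⟦n + 1⟧ ≅ ((M⟦n - 1⟧)⟦(1 : ℤ)⟧)⟦(1 : ℤ)⟧ :=
    (shiftFunctorAdd' C n 1 (n + 1) rfl).app M ≪≫ (shiftFunctor C 1).mapIso (e M)
  refine (bijective_iff_of_iso G Z (e T.obj₂)).2 ?_
  exact LoccohA.HomolFive.bijective_of_triangle (tau G Z) T'.rotate hT'
    (h₃ (n - 1)).2 ((bijective_iff_of_iso G Z (e T.obj₁)).1 (h₁ n))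
    ((bijective_iff_of_iso G Z (e T.obj₃)).1 (h₃ n))
    ((bijective_iff_of_iso G Z (e' T.obj₁)).1 (h₁ (n + 1))).1

/-- Bijectivity at `T₂⟦n⟧` from `T₁` and from `T₃⟦k⟧`, `k ≤ n`. -/
theorem bijective_two (T : Triangle C) (hT : T ∈ distTriang C) (h₁ : Pres G Z T.obj₁) (n : ℤ)
    (h₃ : ∀ k : ℤ, k ≤ n → Function.Bijective ((tau G Z).app (T.obj₃⟦k⟧))) :
    Function.Bijective ((tau G Z).app (T.obj₂⟦n⟧)) := by
  let T' := (Triangle.shiftFunctor C (n - 1)).obj T
  have hT' : T'.rotate ∈ distTriang C :=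
    rot_of_distTriang _ (Triangle.shift_distinguished T hT (n - 1))
  have e (M : C) : M⟦n⟧ ≅ (M⟦n - 1⟧)⟦(1 : ℤ)⟧ := (shiftFunctorAdd' C (n - 1) 1 n (by lia)).app M
  have e' (M : C) : M⟦n + 1⟧ ≅ ((M⟦n - 1⟧)⟦(1 : ℤ)⟧)⟦(1 : ℤ)⟧ :=
    (shiftFunctorAdd' C n 1 (n + 1) rfl).app M ≪≫ (shiftFunctor C 1).mapIso (e M)
  refine (bijective_iff_of_iso G Z (e T.obj₂)).2 ?_
  exact LoccohA.HomolFive.bijective_of_triangle (tau G Z) T'.rotate hT'
    (h₃ (n - 1) (by lia)).2 ((bijective_iff_of_iso G Z (e T.obj₁)).1 (h₁ n))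
    ((bijective_iff_of_iso G Z (e T.obj₃)).1 (h₃ n le_rfl))
    ((bijective_iff_of_iso G Z (e' T.obj₁)).1 (h₁ (n + 1))).1

theorem pres_of_isZero {N : C} (h : IsZero N) : Pres G Z N := by
  intro n
  have h1 : IsZero (N⟦n⟧ : C) := (shiftFunctor C n).map_isZero h
  have h2 : IsZero (G.obj (N⟦n⟧ : C)) := G.map_isZero h1
  exact ⟨fun _ _ _ => h1.eq_of_tgt _ _, fun y => ⟨0, h2.eq_of_tgt _ _⟩⟩

/-- Change of the source object. -/
theorem Pres.of_iso_source {Z' : C} (e : Z ≅ Z') {N : C} (h : Pres G Z N) : Pres G Z' N := by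
  intro n
  constructor
  · intro a b hab
    have : e.hom ≫ a = e.hom ≫ b := (h n).1 (by
      change G.map (e.hom ≫ a) = G.map (e.hom ≫ b)
      rw [G.map_comp, G.map_comp]
      exact congrArg _ hab)
    exact (cancel_epi e.hom).1 this
  · intro y
    obtain ⟨x, hx⟩ := (h n).2 (G.map e.hom ≫ y)
    refine ⟨e.inv ≫ x, ?_⟩
    change G.map (e.inv ≫ x) = y
    have hx' : G.map x = G.map e.hom ≫ y := hx
    rw [G.map_comp, hx', ← Category.assoc, ← G.map_comp, e.inv_hom_id, G.map_id, Category.id_comp]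

end

section

variable {A : Type u} [Category.{v} A] [Abelian A] [HasDerivedCategory.{w} A]
  {D : Type u'} [Category.{w} D] [Preadditive D] [HasZeroObject D] [HasShift D ℤ]
  [∀ n : ℤ, (shiftFunctor D n).Additive] [Pretriangulated D]
  (G : DerivedCategory A ⥤ D) [G.CommShift ℤ] [G.IsTriangulated] (Z : DerivedCategory A)

/-- Dévissage. -/
theorem pres_devissage (N : DerivedCategory A) (a b : ℤ) [N.IsGE a] [N.IsLE b]
    (h : ∀ i : ℤ, Pres G Z ((DerivedCategory.singleFunctor A 0).obj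
      ((DerivedCategory.homologyFunctor A i).obj N))) : Pres G Z N := by
  refine LoccohB.Devissage.devissage (Pres G Z) (fun N hN => pres_of_isZero G Z hN)
    (pres_two G Z) N a b fun i => ?_
  have e := ((DerivedCategory.singleFunctors A).shiftIso i 0 i (by lia)).app
    ((DerivedCategory.homologyFunctor A i).obj N)
  exact Pres.of_shift G Z ((Pres G Z).prop_of_iso e.symm (h i))

end

end Groth.Agent.Sga7.H754.DRes
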