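import Groth.Agent.Etcore.HC
import Groth.Agent.Sga4h.TotBridge
import Groth.Agent.Sga7.H754.DRes

/-!
# Pullback on cohomology in terms of the derived pullback functor

`Z0 X`, `S0 F`: the objects of `D X` defined by `ℤ` and by a sheaf `F`, in degree `0`.
`bijective_hp_iff`: `H^q(X, F) → H^q(X', g⁻¹ F)` is bijective iff `L g` is bijective on
`Hom(Z0 X, (S0 F)⟦q⟧)`.
-/

set_option autoImplicit false
universe u
open CategoryTheory CategoryTheory.Limits AlgebraicGeometry Opposite DerivedCategory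
open CategoryTheory.Abelian
open scoped Groth.Agent.Etcore.EtInst
open Groth.Agent.Etcore.EtInst Groth.Agent.Etcore.PullCoh Groth.Agent.Etcore.HpullCalc
open Groth.Agent.Etcore.HC

attribute [local instance] HasDerivedCategory.standard

namespace Groth.Agent.Sga7.H754.HDer

open Groth.Agent.Sga4h.LPull

variable {X X' Y : Scheme.{u}}

/-- `ℤ` in degree `0`. -/
noncomputable abbrev Z0 (X : Scheme.{u}) : D X := (singleFunctor (EtCoh.Ab X) 0).obj (EtCoh.const X ℤ)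

/-- A sheaf in degree `0`. -/
noncomputable abbrev S0 (F : EtCoh.Ab X) : D X := (singleFunctor (EtCoh.Ab X) 0).obj F

/-- `L g ℤ = ℤ`. -/
noncomputable def LZ0 (g : X' ⟶ X) : (L g).obj (Z0 X) ≅ Z0 X' :=
  ((EtCoh.pull g).mapDerivedCategorySingleFunctor 0).app _ ≪≫
    (singleFunctor (EtCoh.Ab X') 0).mapIso (EtCore.pullConst g ℤ)

theorem hp_hom (g : X' ⟶ X) (F : EtCoh.Ab X) (q : ℕ) (x : HH X F q) :
    Ext.homEquiv (hp g F q x) = (LZ0 g).inv ≫ (L g).map (Ext.homEquiv x) ≫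
      ((L g).commShiftIso (q : ℤ)).hom.app (S0 F) ≫
        (((EtCoh.pull g).mapDerivedCategorySingleFunctor 0).hom.app F)⟦(q : ℤ)⟧' := by
  have h1 : hp g F q x =
      (Ext.mk₀ (EtCore.pullConst g ℤ).inv).comp (x.mapExactFunctor (EtCoh.pull g)) (zero_add q) := rfl
  have h2 := Ext.comp_hom (Ext.mk₀ (EtCore.pullConst g ℤ).inv) (x.mapExactFunctor (EtCoh.pull g))
    (zero_add q)
  have h3 : (x.mapExactFunctor (EtCoh.pull g)).hom = _ := Ext.mapExactFunctor_hom (EtCoh.pull g) x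
  rw [h1]
  refine h2.trans ?_
  rw [Ext.mk₀_hom, ShiftedHom.mk₀_comp, h3]
  simp only [LZ0, Iso.trans_inv, Functor.mapIso_inv, Iso.app_inv, Category.assoc, ShiftedHom.map]
  rfl

theorem bijective_hp_iff (g : X' ⟶ X) (F : EtCoh.Ab X) (q : ℕ) :
    Function.Bijective (hp g F q) ↔
      Function.Bijective (fun φ : Z0 X ⟶ (S0 F)⟦(q : ℤ)⟧ => (L g).map φ) := by
  let E₁ : HH X F q ≃ (Z0 X ⟶ (S0 F)⟦(q : ℤ)⟧) := Ext.homEquiv
  let E₂ : HH X' ((EtCoh.pull g).obj F) q ≃ (Z0 X' ⟶ (S0 ((EtCoh.pull g).obj F))⟦(q : ℤ)⟧) :=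
    Ext.homEquiv
  let e : (L g).obj ((S0 F)⟦(q : ℤ)⟧) ≅ (S0 ((EtCoh.pull g).obj F))⟦(q : ℤ)⟧ :=
    ((L g).commShiftIso (q : ℤ)).app (S0 F) ≪≫ (shiftFunctor _ (q : ℤ)).mapIso
      (((EtCoh.pull g).mapDerivedCategorySingleFunctor 0).app F)
  let E₃ : ((L g).obj (Z0 X) ⟶ (L g).obj ((S0 F)⟦(q : ℤ)⟧)) ≃
      (Z0 X' ⟶ (S0 ((EtCoh.pull g).obj F))⟦(q : ℤ)⟧) := (LZ0 g).homCongr e
  have h : (fun x => E₂ (hp g F q x)) = fun x => E₃ ((L g).map (E₁ x)) := by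
    funext x
    exact hp_hom g F q x
  have h2 : Function.Bijective (hp g F q) ↔ Function.Bijective (fun x => E₂ (hp g F q x)) :=
    (Function.Bijective.of_comp_iff' E₂.bijective (hp g F q)).symm
  rw [h2, h]
  have h3 : (fun x => E₃ ((L g).map (E₁ x))) =
      E₃ ∘ (fun φ : Z0 X ⟶ (S0 F)⟦(q : ℤ)⟧ => (L g).map φ) ∘ E₁ := rfl
  rw [h3, Function.Bijective.of_comp_iff' E₃.bijective, Function.Bijective.of_comp_iff _ E₁.bijective]

end Groth.Agent.Sga7.H754.HDer
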