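import Groth.Agent.Sga7.H754.HDer

/-!
# Base change and restriction of cohomology classes

`bijective_of_bc`: for a square `X' → X`, `Y' → Y` with derived base change for `K`, if pullback along
`Y' → Y` is bijective on `Hom(Z, Rf_* K)` then pullback along `X' → X` is bijective on `Hom(f^* Z, K)`.
-/

set_option autoImplicit false
universe u
open CategoryTheory CategoryTheory.Limits AlgebraicGeometry Opposite DerivedCategory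

attribute [local instance] HasDerivedCategory.standard

namespace Groth.Agent.Sga7.H754.TotRes

open Groth.Agent.Sga4h Groth.Agent.Sga4h.LPull Groth.Agent.Sga4h.TotCat Groth.Agent.Sga4h.TotBridge
  Groth.Agent.Etrest.DEtPush

variable {X X' Y Y' : Scheme.{u}}

/-- `car ≫ arr`. -/
theorem car_arr {K : D X} {Z : D Y} (f : X ⟶ Y) (gX : X' ⟶ X) (φ : (L f).obj Z ⟶ K) :
    car ⟨X, K⟩ gX ≫ (arr f φ : (⟨X, K⟩ : Tot) ⟶ ⟨Y, Z⟩) =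
      (arr (gX ≫ f) ((Lcomp (rfl : gX ≫ f = gX ≫ f)).inv.app Z ≫ (L gX).map φ) :
        (⟨X', (L gX).obj K⟩ : Tot) ⟶ ⟨Y, Z⟩) := by
  have h := comp_arr (car ⟨X, K⟩ gX) (arr f φ : (⟨X, K⟩ : Tot) ⟶ ⟨Y, Z⟩) (k := gX ≫ f) rfl
  refine h.trans ?_
  refine congrArg (fun t => (arr (gX ≫ f) t : (⟨X', (L gX).obj K⟩ : Tot) ⟶ ⟨Y, Z⟩)) ?_
  refine congrArg (fun t => (Lcomp (rfl : gX ≫ f = gX ≫ f)).inv.app Z ≫ t) ?_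
  exact Category.comp_id ((L gX).map φ)

/-- `car ≫ v`. -/
theorem car_v {K Z : D Y} (gY : Y' ⟶ Y) (ψ : Z ⟶ K) :
    car ⟨Y, K⟩ gY ≫ (v (x := ⟨Y, K⟩) ψ : (⟨Y, K⟩ : Tot) ⟶ ⟨Y, Z⟩) =
      (arr gY ((L gY).map ψ) : (⟨Y', (L gY).obj K⟩ : Tot) ⟶ ⟨Y, Z⟩) := by
  have h := comp_v (y := ⟨Y, K⟩) (car ⟨Y, K⟩ gY) (N := Z) ψ
  refine h.trans ?_
  refine congrArg (fun t => (arr gY t : (⟨Y', (L gY).obj K⟩ : Tot) ⟶ ⟨Y, Z⟩)) ?_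
  exact Category.comp_id ((L gY).map ψ)

section

variable {K : D X} {N : D Y} {f : X ⟶ Y} {α : (L f).obj N ⟶ K}

/-- Factorization through a universal arrow. -/
theorem exists_fac (ha : IsU (arr f α : (⟨X, K⟩ : Tot) ⟶ ⟨Y, N⟩)) {Z : D Y} (φ : (L f).obj Z ⟶ K) :
    ∃ ψ : Z ⟶ N, (arr f φ : (⟨X, K⟩ : Tot) ⟶ ⟨Y, Z⟩) =
      (arr f α : (⟨X, K⟩ : Tot) ⟶ ⟨Y, N⟩) ≫ (v (x := ⟨Y, N⟩) ψ : (⟨Y, N⟩ : Tot) ⟶ ⟨Y, Z⟩) := by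
  obtain ⟨d, hd, hd'⟩ := ha.exists_desc (arr f φ : (⟨X, K⟩ : Tot) ⟶ ⟨Y, Z⟩) (𝟙 Y)
    (Category.comp_id _)
  obtain ⟨ψ, hψ⟩ := exists_v (x := ⟨Y, N⟩) d hd
  exact ⟨ψ, by rw [← hψ, hd']⟩

variable {gY : Y' ⟶ Y} {f' : X' ⟶ Y'} {gX : X' ⟶ X}
  {a' : (⟨X', (L gX).obj K⟩ : Tot) ⟶ ⟨Y', (L gY).obj N⟩}
  (hc : a' ≫ car ⟨Y, N⟩ gY = car ⟨X, K⟩ gX ≫ (arr f α : (⟨X, K⟩ : Tot) ⟶ ⟨Y, N⟩))

include hc in
theorem car_comp_v {Z : D Y} (ψ : Z ⟶ N) :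
    car ⟨X, K⟩ gX ≫ (arr f α : (⟨X, K⟩ : Tot) ⟶ ⟨Y, N⟩) ≫
      (v (x := ⟨Y, N⟩) ψ : (⟨Y, N⟩ : Tot) ⟶ ⟨Y, Z⟩) =
      a' ≫ (arr gY ((L gY).map ψ) : (⟨Y', (L gY).obj N⟩ : Tot) ⟶ ⟨Y, Z⟩) := by
  have h1 := car_v gY ψ
  have h2 := congrArg (fun t => t ≫ (v (x := ⟨Y, N⟩) ψ : (⟨Y, N⟩ : Tot) ⟶ ⟨Y, Z⟩)) hc
  have h3 := congrArg (fun t => a' ≫ t) h1
  dsimp only at h2 h3
  rw [Category.assoc, Category.assoc] at h2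
  exact h2.symm.trans h3

include hc in
theorem injective_aux (ha : IsU (arr f α : (⟨X, K⟩ : Tot) ⟶ ⟨Y, N⟩)) (ha' : IsU a')
    {Z : D Y} (h : Function.Injective (fun ψ : Z ⟶ N => (L gY).map ψ)) :
    Function.Injective (fun φ : (L f).obj Z ⟶ K => (L gX).map φ) := by
  intro φ₁ φ₂ hφ
  obtain ⟨ψ₁, h₁⟩ := exists_fac ha φ₁
  obtain ⟨ψ₂, h₂⟩ := exists_fac ha φ₂
  have e1 : car ⟨X, K⟩ gX ≫ (arr f φ₁ : (⟨X, K⟩ : Tot) ⟶ ⟨Y, Z⟩) =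
      car ⟨X, K⟩ gX ≫ (arr f φ₂ : (⟨X, K⟩ : Tot) ⟶ ⟨Y, Z⟩) := by
    refine (car_arr f gX φ₁).trans (Eq.trans ?_ (car_arr f gX φ₂).symm)
    have hφ' : (L gX).map φ₁ = (L gX).map φ₂ := hφ
    rw [hφ']
  rw [h₁, h₂] at e1
  have e2 := (car_comp_v hc ψ₁).symm.trans (e1.trans (car_comp_v hc ψ₂))
  have e3 : (arr gY ((L gY).map ψ₁) : (⟨Y', (L gY).obj N⟩ : Tot) ⟶ ⟨Y, Z⟩) =
      arr gY ((L gY).map ψ₂) := by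
    refine ha'.hom_ext ?_ e2
    rfl
  have e4 : ψ₁ = ψ₂ := h (arr_injective e3)
  subst e4
  exact arr_injective (h₁.trans h₂.symm)

include hc in
theorem surjective_aux (ha' : IsU a') (hb : a'.base = f')
    (w : gX ≫ f = f' ≫ gY) {Z : D Y} (h : Function.Surjective (fun ψ : Z ⟶ N => (L gY).map ψ)) :
    Function.Surjective (fun φ : (L f).obj Z ⟶ K => (L gX).map φ) := by
  intro χ
  obtain ⟨d', hd', hd''⟩ := ha'.exists_desc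
    (arr (gX ≫ f) ((Lcomp (rfl : gX ≫ f = gX ≫ f)).inv.app Z ≫ χ) :
      (⟨X', (L gX).obj K⟩ : Tot) ⟶ ⟨Y, Z⟩) gY (by rw [hb]; exact w.symm)
  obtain ⟨χ', hχ'⟩ := exists_arr d' hd'
  obtain ⟨ψ, hψ⟩ := h χ'
  have hψ' : (L gY).map ψ = χ' := hψ
  rw [hχ', ← hψ'] at hd''
  have e1 := (car_comp_v hc ψ).trans hd''
  have e2 := comp_v (arr f α : (⟨X, K⟩ : Tot) ⟶ ⟨Y, N⟩) (N := Z) ψ
  refine ⟨(L f).map ψ ≫ α, ?_⟩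
  have e3 := (car_arr f gX ((L f).map ψ ≫ α)).symm.trans
    ((congrArg (fun t => car ⟨X, K⟩ gX ≫ t) e2.symm).trans e1)
  exact (cancel_epi _).1 (arr_injective e3)

end

theorem bijective_of_bc {f : X ⟶ Y} {gY : Y' ⟶ Y} {f' : X' ⟶ Y'} {gX : X' ⟶ X}
    (w : gX ≫ f = f' ≫ gY) (K : D X) (hbc : GSq.BC w K) (Z : D Y)
    (h : Function.Bijective (fun ψ : Z ⟶ (pushD f).obj K => (L gY).map ψ)) :
    Function.Bijective (fun φ : (L f).obj Z ⟶ K => (L gX).map φ) := by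
  obtain ⟨a, ha0, ha⟩ := exists_isU_pushD (⟨X, K⟩ : Tot) f
  obtain ⟨α, rfl⟩ := exists_arr a ha0
  obtain ⟨a', hb, hc⟩ := exists_bc (arr f α : (⟨X, K⟩ : Tot) ⟶ ⟨Y, (pushD f).obj K⟩) gY f' gX w
  have ha' : IsU a' := (isU_iff_BC ha w a' hb hc).2 hbc
  exact ⟨injective_aux hc ha ha' h.1, surjective_aux hc ha' hb w h.2⟩

end Groth.Agent.Sga7.H754.TotRes
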