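import Groth.Agent.Sga7.H754.StrictPres
import Groth.Agent.Sga7.H754.TotRes
import Groth.Agent.Sga7.H754.SCDef
import Groth.Agent.Sga7.H25.Nice

/-!
# `Nice n f` implies `SC (ZMod n) f m` for all `m`
-/

set_option autoImplicit false
universe u
open CategoryTheory CategoryTheory.Limits AlgebraicGeometry Opposite DerivedCategory
open scoped Groth.Agent.Etcore.EtInst
open Groth.Agent.Etcore.EtInst Groth.Agent.Etcore.PullCoh Groth.Agent.Etcore.HpullCalc
open Groth.Agent.Etcore.HC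

attribute [local instance] HasDerivedCategory.standard

namespace Groth.Agent.Sga7.H754.NiceSC

open Groth.Agent.Sga4h Groth.Agent.Sga4h.LPull Groth.Agent.Sga7.H754.HDer Groth.Agent.Sga7.H754.DRes
  Groth.Agent.Etrest.DEtPush Groth.Agent.Sga7.H754.SCDef Groth.Agent.Sga7.H754.StrictPres
  Groth.Agent.Sga7.H25.Nice

/-- Change of the source object. -/
theorem bijective_source {C D : Type*} [Category* C] [Category* D] (G : C ⥤ D) {Z Z' N : C}
    (e : Z ≅ Z') (h : Function.Bijective (fun φ : Z ⟶ N => G.map φ)) :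
    Function.Bijective (fun φ : Z' ⟶ N => G.map φ) := by
  constructor
  · intro a b hab
    have hab' : G.map a = G.map b := hab
    have : e.hom ≫ a = e.hom ≫ b := h.1 (by
      change G.map (e.hom ≫ a) = G.map (e.hom ≫ b)
      rw [G.map_comp, G.map_comp, hab'])
    exact (cancel_epi e.hom).1 this
  · intro y
    obtain ⟨x, hx⟩ := h.2 (G.map e.hom ≫ y)
    refine ⟨e.inv ≫ x, ?_⟩
    have hx' : G.map x = G.map e.hom ≫ y := hx
    change G.map (e.inv ≫ x) = y
    rw [G.map_comp, hx', ← Category.assoc, ← G.map_comp, e.inv_hom_id, G.map_id, Category.id_comp]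

/-- Base change and bijectivity on the base give bijectivity of the restriction map. -/
theorem bijective_hp_of_bc {X X' Y Y' : Scheme.{u}} {f : X ⟶ Y} {gY : Y' ⟶ Y} {f' : X' ⟶ Y'}
    {gX : X' ⟶ X} (w : gX ≫ f = f' ≫ gY) (F : EtCoh.Ab X) (hbc : GSq.BC w (S0 F))
    (h : Pres (L gY) (Z0 Y) ((pushD f).obj (S0 F))) (q : ℕ) : Function.Bijective (hp gX F q) := by
  rw [bijective_hp_iff]
  have h1 : Function.Bijective (fun ψ : Z0 Y ⟶ (pushD f).obj ((S0 F)⟦(q : ℤ)⟧) => (L gY).map ψ) :=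
    (bijective_iff_of_iso (L gY) (Z0 Y) (((pushD f).commShiftIso (q : ℤ)).app (S0 F))).2 (h q)
  have h2 := TotRes.bijective_of_bc w ((S0 F)⟦(q : ℤ)⟧) (hbc.shift q) (Z0 Y) h1
  exact bijective_source (L gX) (LZ0 f) h2

/-- The cohomology sheaves of `Rf_* F`. -/
theorem flc_homology_pushD {X Y : Scheme.{u}} (f : X ⟶ Y) (F : EtCoh.Ab X)
    (h : ∀ q : ℕ, EtCoh.IsFiniteLocallyConstant ((EtCoh.Rpush f q).obj F)) (i : ℤ) :
    EtCoh.IsFiniteLocallyConstant ((homologyFunctor _ i).obj ((pushD f).obj (S0 F))) := by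
  obtain ⟨q, rfl⟩ | hi : (∃ q : ℕ, i = q) ∨ i < 0 := by
    rcases lt_or_ge i 0 with h | h
    · exact Or.inr h
    · exact Or.inl ⟨i.toNat, by lia⟩
  · exact EtpbcA.PullFLC.isFLC_of_iso ((Etrest.RDer3.HTRsingle (EtCoh.push f) q).app F).symm (h q)
  · have hge : ((pushD f).obj (S0 F)).IsGE 0 := Etrest.RDer3.TR_isGE (EtCoh.push f) _ 0
    exact EtpbcA.FLCExact.flc_of_isZero (isZero_of_isGE _ 0 i hi)

/-- **`Nice` implies `SC`.** -/
theorem SC_of_nice {X Y : Scheme.{u}} {f : X ⟶ Y} {n : ℕ} (h : Nice n f) (m : ℕ) :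
    SC (ZMod n) f m := by
  intro T Ω _ _ _ _ _ a t t' w q _
  have hN : Nice n (pullback.snd f t) := h.baseChange (IsPullback.of_hasPullback f t)
  have hsq : IsPullback (bm f (Spec.map (CommRingCat.ofHom a)) t t' w) (pullback.snd f t')
      (pullback.snd f t) (Spec.map (CommRingCat.ofHom a)) := by
    subst w
    refine IsPullback.of_right (h₁₂ := pullback.fst f t) (v₁₃ := f) (h₂₂ := t) ?_
      (bm_snd _ _ _ _ _) (IsPullback.of_hasPullback f t)
    rw [bm_fst]
    exact IsPullback.of_hasPullback f _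
  refine (bijective_HC_iff (ZMod n) _ q).2 ?_
  have hge : ((pushD (pullback.snd f t)).obj (S0 (EtCoh.const _ (ZMod n)))).IsGE 0 :=
    Etrest.RDer3.TR_isGE (EtCoh.push _) _ 0
  exact bijective_hp_of_bc hsq.w _ (hN.bc _ _ _ hsq)
    (pres_of_flc' _ _ 0 (flc_homology_pushD _ _ hN.flc)) q

end Groth.Agent.Sga7.H754.NiceSC
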