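import Groth.Agent.Sga7.H754.HDer
import Groth.Agent.Etalg.LACoreB2
import Groth.Agent.S0073
import Groth.Agent.EtpbcA.PullFLC
import Groth.Agent.EtpbcA.FLCExact

/-!
# Restriction of cohomology from a strictly henselian scheme to a geometric point

`A` strictly henselian, `t : Spec Ω ⟶ Spec A`.
* `bijective_hp_strict`: `H^q(Spec A, G) → H^q(Spec Ω, t⁻¹ G)` is bijective for `G` finite locally constant;
* `pres_of_flc`: `L t` is bijective on `Hom(ℤ, N⟦n⟧)` for `N` bounded with finite locally constant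
  cohomology sheaves.
-/

set_option autoImplicit false
set_option linter.unusedSectionVars false
universe u
open CategoryTheory CategoryTheory.Limits AlgebraicGeometry Opposite DerivedCategory
open scoped Groth.Agent.Etcore.EtInst
open Groth.Agent.Etcore.EtInst Groth.Agent.Etcore.PullCoh Groth.Agent.Etcore.HpullCalc
open Groth.Agent.Etcore.HC

attribute [local instance] HasDerivedCategory.standard

namespace Groth.Agent.Sga7.H754.StrictPres

open Groth.Agent.Sga4h.LPull Groth.Agent.Sga7.H754.HDer Groth.Agent.Sga7.H754.DRes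

theorem isSepClosed_residueField (Ω : Type u) [Field Ω] [IsSepClosed Ω] :
    IsSepClosed (IsLocalRing.ResidueField Ω) := by
  have e : Ω ≃+* IsLocalRing.ResidueField Ω := RingEquiv.ofBijective (IsLocalRing.residue Ω)
    ⟨RingHom.injective _, IsLocalRing.residue_surjective⟩
  exact Groth.Agent.Etalg.LACoreB.isSepClosed_of_ringEquiv e.symm

section

variable {A : Type u} [CommRing A] [HenselianLocalRing A] [IsSepClosed (IsLocalRing.ResidueField A)]
  {Ω : Type u} [Field Ω] [IsSepClosed Ω] (t : Spec (CommRingCat.of Ω) ⟶ Spec (CommRingCat.of A))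

theorem bijective_hp_strict {G : EtCoh.Ab (Spec (CommRingCat.of A))}
    (hG : EtCoh.IsFiniteLocallyConstant G) (q : ℕ) : Function.Bijective (hp t G q) := by
  cases q with
  | zero =>
    rw [bijective_hp_zero_iff, bijective_unitSec_iff]
    exact Groth.Agent.Etalg.LACoreB.bijective_unit_top t hG
  | succ q =>
    have h1 : Subsingleton (HH _ G (q + 1)) := Groth.Agent.S0073.result A G (q + 1) (by lia)
    have := isSepClosed_residueField Ω
    have h2 : Subsingleton (HH _ ((EtCoh.pull t).obj G) (q + 1)) :=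
      Groth.Agent.S0073.result Ω _ (q + 1) (by lia)
    exact ⟨fun _ _ _ => Subsingleton.elim _ _, fun y => ⟨0, Subsingleton.elim _ _⟩⟩

end

/-- Negative extensions vanish. -/
theorem eq_zero_neg {C : Type*} [Category* C] [Abelian C] [HasDerivedCategory C]
    {K N : DerivedCategory C} [K.IsLE 0] [N.IsGE 0] (n : ℤ) (hn : n < 0) (φ : K ⟶ N⟦n⟧) : φ = 0 := by
  have h3 : (N⟦n⟧).IsGE (-n) := TStructure.t.isGE_shift N 0 n (-n) (by lia)
  exact TStructure.t.zero φ 0 (-n) (by lia)

section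

variable {A : Type u} [CommRing A] [HenselianLocalRing A] [IsSepClosed (IsLocalRing.ResidueField A)]
  {Ω : Type u} [Field Ω] [IsSepClosed Ω] (t : Spec (CommRingCat.of Ω) ⟶ Spec (CommRingCat.of A))

theorem pres_single {G : EtCoh.Ab (Spec (CommRingCat.of A))}
    (hG : EtCoh.IsFiniteLocallyConstant G) : Pres (L t) (Z0 _) (S0 G) := by
  intro n
  obtain ⟨q, rfl⟩ | hn : (∃ q : ℕ, n = q) ∨ n < 0 := by
    rcases lt_or_ge n 0 with h | h
    · exact Or.inr h
    · exact Or.inl ⟨n.toNat, by lia⟩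
  · exact (bijective_hp_iff t G q).1 (bijective_hp_strict t hG q)
  · refine ⟨fun a b _ => (eq_zero_neg n hn a).trans (eq_zero_neg n hn b).symm, fun y => ⟨0, ?_⟩⟩
    have h1 : ((L t).obj (Z0 (Spec (CommRingCat.of A)))).IsLE 0 :=
      Dcoh.MapDer.isLE_map (EtCoh.pull t) 0 _
    have h2 : ((L t).obj (S0 G)).IsGE 0 := Dcoh.MapDer.isGE_map (EtCoh.pull t) 0 _
    have h3 : y ≫ ((L t).commShiftIso n).hom.app (S0 G) = 0 := eq_zero_neg n hn _
    have h4 : y = 0 := by
      rw [← cancel_mono (((L t).commShiftIso n).hom.app (S0 G)), h3, zero_comp]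
    rw [h4]
    exact (L t).map_zero _ _

theorem pres_of_flc (N : D (Spec (CommRingCat.of A))) (a b : ℤ) [N.IsGE a] [N.IsLE b]
    (h : ∀ i : ℤ, EtCoh.IsFiniteLocallyConstant ((homologyFunctor _ i).obj N)) :
    Pres (L t) (Z0 _) N :=
  pres_devissage (L t) (Z0 _) N a b fun i => pres_single t (h i)

theorem bijective_of_isGE_one {N : D (Spec (CommRingCat.of A))} {k : ℤ} (hN : N.IsGE (k + 1)) :
    Function.Bijective ((tau (L t) (Z0 _)).app (N⟦k⟧)) := by
  have h1 : (N⟦k⟧).IsGE 1 := TStructure.t.isGE_shift N (k + 1) k 1 (by lia)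
  have h2 : ((L t).obj (N⟦k⟧)).IsGE 1 := Dcoh.MapDer.isGE_map (EtCoh.pull t) 1 _
  have h3 : ((L t).obj (Z0 (Spec (CommRingCat.of A)))).IsLE 0 :=
    Dcoh.MapDer.isLE_map (EtCoh.pull t) 0 _
  have h4 (a : Z0 (Spec (CommRingCat.of A)) ⟶ N⟦k⟧) : a = 0 := TStructure.t.zero a 0 1 (by lia)
  have h5 (a : (L t).obj (Z0 (Spec (CommRingCat.of A))) ⟶ (L t).obj (N⟦k⟧)) : a = 0 :=
    TStructure.t.zero a 0 1 (by lia)
  exact ⟨fun a b _ => (h4 a).trans (h4 b).symm, fun y => ⟨0, ((L t).map_zero _ _).trans (h5 y).symm⟩⟩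

/-- The same without boundedness above. -/
theorem pres_of_flc' (N : D (Spec (CommRingCat.of A))) (a : ℤ) [N.IsGE a]
    (h : ∀ i : ℤ, EtCoh.IsFiniteLocallyConstant ((homologyFunctor _ i).obj N)) :
    Pres (L t) (Z0 _) N := by
  intro n
  obtain ⟨T, hT, rfl, h1, h3, hi1, -⟩ := LoccohB.Devissage.exists_trunc N n (n + 1) rfl
  have hz (i : ℤ) (hi : n < i) : IsZero ((homologyFunctor _ i).obj T.obj₁) :=
    T.obj₁.isZero_of_isLE n i hi
  have hge : T.obj₁.IsGE a := by
    rw [isGE_iff]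
    intro i hi
    by_cases hi' : i ≤ n
    · have := hi1 i hi'
      exact (T.obj₂.isZero_of_isGE a i hi).of_iso (asIso ((homologyFunctor _ i).map T.mor₁))
    · exact hz i (by lia)
  refine bijective_two (L t) (Z0 _) T hT (pres_of_flc t T.obj₁ a n fun i => ?_) n fun k hk =>
    bijective_of_isGE_one t (TStructure.t.isGE_of_ge _ (k + 1) (n + 1) (by lia))
  by_cases hi' : i ≤ n
  · have := hi1 i hi'
    exact EtpbcA.PullFLC.isFLC_of_iso (asIso ((homologyFunctor _ i).map T.mor₁)).symm (h i)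
  · exact EtpbcA.FLCExact.flc_of_isZero (hz i (by lia))

end

end Groth.Agent.Sga7.H754.StrictPres
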